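import Groth.Prelude.Def_W4c4chowquasisplitPn
import Mathlib.Algebra.MvPolynomial.Coeff
import Mathlib.LinearAlgebra.Basis.VectorSpace
import Mathlib.Algebra.Field.ZMod
import Mathlib.LinearAlgebra.Dimension.Constructions
import Mathlib.LinearAlgebra.Dimension.OrzechProperty
import Mathlib.LinearAlgebra.FiniteDimensional.Lemmas
import Mathlib.Tactic.LinearCombination
import Mathlib.Tactic.Ring

/-!
A basis of the truncated algebra adapted to its involution.
-/

set_option autoImplicit false

noncomputable section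

open MvPolynomial Module

namespace Groth.L14.QsChow

open _root_.QsChow

variable {n : ℕ}

/-- The variables of index at least three. -/
abbrev W (n : ℕ) := {i : Fin (numVars n) // 2 ≤ i.val}

theorem two_le_numVars (hn : 2 ≤ n) : 2 ≤ numVars n := by unfold numVars; omega

theorem eps_eq (i : Fin (numVars n)) :
    eps n (i.val + 1) = Ideal.Quotient.mk (truncIdeal n) (X i) := by
  rw [eps, dif_pos ⟨Nat.succ_pos _, i.2⟩]
  congr 2

/-- `ε₁` -/
abbrev T (n : ℕ) : P n := eps n 1
/-- `ε₂` -/
abbrev U (n : ℕ) : P n := eps n 2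
/-- `ē₂` -/
abbrev V (n : ℕ) : P n := U n ^ 2 + T n * U n
/-- `ē_j` -/
abbrev F (w : W n) : P n := eps n (w.1.val + 1) + T n ^ (2 * (w.1.val + 1) - 4) * U n
/-- Truncation exponents. -/
abbrev K (w : W n) : ℕ := 2 ^ klog n (w.1.val + 1)
/-- Half the exponent of `ε₂`. -/
abbrev M (n : ℕ) : ℕ := 2 ^ (klog n 2 - 1)
/-- The product part. -/
def G (β : W n → ℕ) : P n := ∏ w, F w ^ β w

theorem two_eq_zero (n : ℕ) : (2 : P n) = 0 := by
  rw [← map_ofNat (algebraMap (ZMod 2) (P n)) 2, show (2 : ZMod 2) = 0 from by decide, map_zero]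

theorem add_self (x : P n) : x + x = 0 := by
  linear_combination x * two_eq_zero n

theorem add_pow_two_pow {R : Type*} [CommRing R] (h : (2 : R) = 0) (a b : R) (k : ℕ) :
    (a + b) ^ 2 ^ k = a ^ 2 ^ k + b ^ 2 ^ k := by
  induction k with
  | zero => simp
  | succ k ih =>
    rw [pow_succ, pow_mul, pow_mul, pow_mul, ih]
    linear_combination (a ^ 2 ^ k * b ^ 2 ^ k) * h

theorem sum_pow_two {R : Type*} [CommRing R] (h : (2 : R) = 0) {ι : Type*} (s : Finset ι) (f : ι → R) :
    (∑ i ∈ s, f i) ^ 2 = ∑ i ∈ s, f i ^ 2 := by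
  classical
  induction s using Finset.induction with
  | empty => simp
  | insert a s ha ih =>
    rw [Finset.sum_insert ha, Finset.sum_insert ha, ← ih]
    linear_combination (f a * ∑ i ∈ s, f i) * h

theorem bound_zero (i : Fin (numVars n)) (hi : i.val = 0) : bound n i = n := by simp [bound, hi]

theorem bound_pos (i : Fin (numVars n)) (hi : i.val ≠ 0) : bound n i = 2 ^ klog n (i.val + 1) := by
  simp [bound, hi]

theorem le_klog (hn : 1 ≤ n) {j : ℕ} (hj : 2 ≤ j) : n ≤ (2 * j - 3) * 2 ^ klog n j := by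
  have hd : 0 < 2 * j - 3 := by omega
  have h1 : (2 * n - 1) / (2 * j - 3) < 2 ^ (klog n j + 1) := Nat.lt_pow_succ_log_self one_lt_two _
  have h2 : 2 * n - 1 < 2 ^ (klog n j + 1) * (2 * j - 3) := (Nat.div_lt_iff_lt_mul hd).mp h1
  rw [pow_succ] at h2
  have h3 : 2 ^ klog n j * 2 * (2 * j - 3) = 2 * ((2 * j - 3) * 2 ^ klog n j) := by ring
  omega

theorem le_K2 (hn : 1 ≤ n) : n ≤ 2 ^ klog n 2 := by simpa using le_klog hn (le_refl 2)

theorem one_le_klog (hn : 2 ≤ n) : 1 ≤ klog n 2 := by
  have := le_K2 (n := n) (by omega)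
  rcases Nat.eq_zero_or_pos (klog n 2) with h | h
  · rw [h] at this; omega
  · exact h

theorem two_mul_M (hn : 2 ≤ n) : 2 * M n = 2 ^ klog n 2 := by
  rw [← pow_succ', Nat.sub_add_cancel (one_le_klog hn)]

theorem klog_mono {j j' : ℕ} (hj : 2 ≤ j) (h : j ≤ j') : klog n j' ≤ klog n j :=
  Nat.log_mono_right (Nat.div_le_div_left (by omega) (by omega))

theorem T_pow (hn : 2 ≤ n) {a : ℕ} (ha : n ≤ a) : T n ^ a = 0 := by
  have h0 : (0 : ℕ) < numVars n := by have := two_le_numVars hn; omega
  have h : T n ^ n = 0 := by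
    rw [T, show (1 : ℕ) = (⟨0, h0⟩ : Fin (numVars n)).val + 1 from rfl, eps_eq, ← map_pow,
      Ideal.Quotient.eq_zero_iff_mem]
    have h1 : (X (⟨0, h0⟩ : Fin (numVars n)) : FreeP n) ^ bound n ⟨0, h0⟩ ∈ truncIdeal n :=
      Ideal.subset_span ⟨_, rfl⟩
    rwa [bound_zero _ rfl] at h1
  rw [← Nat.add_sub_cancel' ha, pow_add, h, zero_mul]

theorem eps_pow (i : Fin (numVars n)) (hi : i.val ≠ 0) :
    eps n (i.val + 1) ^ 2 ^ klog n (i.val + 1) = 0 := by
  rw [eps_eq, ← map_pow, Ideal.Quotient.eq_zero_iff_mem, ← bound_pos i hi]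
  exact Ideal.subset_span ⟨_, rfl⟩

theorem U_pow (hn : 2 ≤ n) {c : ℕ} (hc : 2 ^ klog n 2 ≤ c) : U n ^ c = 0 := by
  have h1 : (1 : ℕ) < numVars n := two_le_numVars hn
  have h : U n ^ 2 ^ klog n 2 = 0 := eps_pow (⟨1, h1⟩ : Fin (numVars n)) one_ne_zero
  rw [← Nat.add_sub_cancel' hc, pow_add, h, zero_mul]

theorem U_pow_two_pow (k : ℕ) : U n ^ 2 ^ k =
    (∑ s ∈ Finset.range k, T n ^ (2 ^ k - 2 ^ (s + 1)) * V n ^ 2 ^ s) + T n ^ (2 ^ k - 1) * U n := by
  induction k with
  | zero => simp
  | succ k ih =>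
    conv_lhs => rw [pow_succ, pow_mul, ih]
    rw [show ((∑ s ∈ Finset.range k, T n ^ (2 ^ k - 2 ^ (s + 1)) * V n ^ 2 ^ s) +
        T n ^ (2 ^ k - 1) * U n) ^ 2 =
        (∑ s ∈ Finset.range k, T n ^ (2 ^ k - 2 ^ (s + 1)) * V n ^ 2 ^ s) ^ 2 +
        (T n ^ (2 ^ k - 1) * U n) ^ 2 from by simpa using add_pow_two_pow (two_eq_zero n) _ _ 1,
      sum_pow_two (two_eq_zero n), Finset.sum_range_succ']
    have hterm : ∀ s ∈ Finset.range k, (T n ^ (2 ^ k - 2 ^ (s + 1)) * V n ^ 2 ^ s) ^ 2 =
        T n ^ (2 ^ (k + 1) - 2 ^ (s + 1 + 1)) * V n ^ 2 ^ (s + 1) := by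
      intro s _
      rw [mul_pow, ← pow_mul, ← pow_mul]
      congr 2
      rw [Nat.sub_mul, ← pow_succ, ← pow_succ]
    rw [Finset.sum_congr rfl hterm, mul_pow, ← pow_mul]
    have h2k : 1 ≤ 2 ^ k := Nat.one_le_two_pow
    have e1 : (2 ^ k - 1) * 2 = 2 ^ (k + 1) - 2 ^ (0 + 1) := by rw [pow_succ]; omega
    have e2 : 2 ^ (k + 1) - 1 = (2 ^ k - 1) * 2 + 1 := by rw [pow_succ]; omega
    rw [← e1, e2, pow_succ (T n) ((2 ^ k - 1) * 2), pow_zero, pow_one]
    linear_combination (-(T n ^ ((2 ^ k - 1) * 2) * (T n * U n))) * two_eq_zero n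

theorem F_pow (w : W n) :
    F w ^ K w = T n ^ ((2 * (w.1.val + 1) - 4) * K w) * U n ^ K w := by
  have hw : w.1.val ≠ 0 := by have := w.2; omega
  rw [F, K, add_pow_two_pow (two_eq_zero n), eps_pow _ hw, zero_add, mul_pow, ← pow_mul]

/-- Products with arbitrary exponents. -/
def term (n : ℕ) (a i c : ℕ) (β : W n → ℕ) : P n := T n ^ a * V n ^ i * U n ^ c * G β

/-- Indices of the adapted basis. -/
abbrev Idx (n : ℕ) := Fin n × Fin (M n) × Bool × ((w : W n) → Fin (K w))

/-- The members of the adapted basis. -/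
def el (x : Idx n) : P n :=
  term n x.1 x.2.1 x.2.2.1.toNat fun w => (x.2.2.2 w : ℕ)

theorem G_add_single [DecidableEq (W n)] (β : W n → ℕ) (w : W n) (c : ℕ) :
    G (β + Pi.single w c) = G β * F w ^ c := by
  simp only [G, Pi.add_apply, pow_add, Finset.prod_mul_distrib]
  congr 1
  rw [Fintype.prod_eq_single w]
  · simp
  · intro b hb; simp [hb]

theorem term_mem_span (hn : 2 ≤ n) (a i c : ℕ) (β : W n → ℕ) (hi : i = 0) :
    term n a i c β ∈ Submodule.span (ZMod 2) (Set.range (el (n := n))) := by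
  classical
  subst hi
  induction hN : ∑ w, β w using Nat.strong_induction_on generalizing a c β with
  | _ N ih =>
  by_cases hβ : ∃ w, K w ≤ β w
  · obtain ⟨w, hw⟩ := hβ
    set β' := β - Pi.single w (K w) with hβ'
    have hb : β = β' + Pi.single w (K w) := by
      funext x
      by_cases hx : x = w
      · subst hx; simp [β']; omega
      · simp [β', hx]
    have hlt : ∑ x, β' x < N := by
      rw [← hN]
      conv_rhs => rw [hb]
      simp only [Pi.add_apply, Finset.sum_add_distrib, Finset.sum_pi_single', Finset.mem_univ, if_true]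
      have : 0 < K w := Nat.two_pow_pos _
      omega
    have := ih _ hlt (a + (2 * (w.1.val + 1) - 4) * K w) (c + K w) β' rfl
    convert this using 1
    conv_lhs => rw [term, hb, G_add_single, F_pow]
    simp only [term, pow_add]
    ring
  push Not at hβ
  by_cases hc : 2 ^ klog n 2 ≤ c
  · rw [term, U_pow hn hc]; simp
  suffices h : ∀ c a i, 2 * i + c < 2 ^ klog n 2 →
      term n a i c β ∈ Submodule.span (ZMod 2) (Set.range (el (n := n))) from h c a 0 (by omega)
  intro c
  induction c using Nat.strong_induction_on with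
  | _ c ihc =>
  intro a i h
  by_cases ha : n ≤ a
  · rw [term, T_pow hn ha]; simp
  rcases lt_or_ge c 2 with hc2 | hc2
  · have hi : i < M n := by have := two_mul_M hn; omega
    refine Submodule.subset_span ⟨⟨⟨a, by omega⟩, ⟨i, hi⟩, decide (c = 1), fun w => ⟨β w, hβ w⟩⟩, ?_⟩
    have hce : (decide (c = 1)).toNat = c := by
      rcases (show c = 0 ∨ c = 1 by omega) with rfl | rfl <;> rfl
    simp only [el, hce]
  · obtain ⟨d, rfl⟩ : ∃ d, c = d + 2 := ⟨c - 2, by omega⟩
    have h1 := ihc d (by omega) a (i + 1) (by omega)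
    have h2 := ihc (d + 1) (by omega) (a + 1) i (by omega)
    convert add_mem h1 h2 using 1
    simp only [term, V, pow_add, pow_one]
    linear_combination (-(T n ^ a * T n * (U n ^ 2 + T n * U n) ^ i * U n ^ d * U n * G β)) * two_eq_zero n

theorem span_el (hn : 2 ≤ n) : Submodule.span (ZMod 2) (Set.range (el (n := n))) = ⊤ := by
  classical
  set S : Set (P n) := Set.range fun x : ℕ × ℕ × (W n → ℕ) => term n x.1 0 x.2.1 x.2.2
  have hS : Submodule.span (ZMod 2) S ≤ Submodule.span (ZMod 2) (Set.range (el (n := n))) :=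
    Submodule.span_le.mpr fun _ ⟨x, hx⟩ => hx ▸ term_mem_span hn _ _ _ _ rfl
  have hT : ∀ y ∈ Submodule.span (ZMod 2) S, T n * y ∈ Submodule.span (ZMod 2) S := by
    intro y hy
    induction hy using Submodule.span_induction with
    | mem y hy =>
      obtain ⟨⟨a, c, β⟩, rfl⟩ := hy
      exact Submodule.subset_span ⟨(a + 1, c, β), by simp only [term]; ring⟩
    | zero => simp
    | add _ _ _ _ h h' => rw [mul_add]; exact add_mem h h'
    | smul r _ _ h => rw [mul_smul_comm]; exact Submodule.smul_mem _ r h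
  have hU : ∀ y ∈ Submodule.span (ZMod 2) S, U n * y ∈ Submodule.span (ZMod 2) S := by
    intro y hy
    induction hy using Submodule.span_induction with
    | mem y hy =>
      obtain ⟨⟨a, c, β⟩, rfl⟩ := hy
      exact Submodule.subset_span ⟨(a, c + 1, β), by simp only [term]; ring⟩
    | zero => simp
    | add _ _ _ _ h h' => rw [mul_add]; exact add_mem h h'
    | smul r _ _ h => rw [mul_smul_comm]; exact Submodule.smul_mem _ r h
  have hF : ∀ w, ∀ y ∈ Submodule.span (ZMod 2) S, F w * y ∈ Submodule.span (ZMod 2) S := by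
    intro w y hy
    induction hy using Submodule.span_induction with
    | mem y hy =>
      obtain ⟨⟨a, c, β⟩, rfl⟩ := hy
      refine Submodule.subset_span ⟨(a, c, β + Pi.single w 1), ?_⟩
      simp only [term, G_add_single, pow_one]; ring
    | zero => simp
    | add _ _ _ _ h h' => rw [mul_add]; exact add_mem h h'
    | smul r _ _ h => rw [mul_smul_comm]; exact Submodule.smul_mem _ r h
  have hTk : ∀ (k : ℕ) y, y ∈ Submodule.span (ZMod 2) S → T n ^ k * y ∈ Submodule.span (ZMod 2) S := by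
    intro k
    induction k with
    | zero => intro y hy; simpa using hy
    | succ k ih => intro y hy; rw [pow_succ, mul_assoc]; exact ih _ (hT y hy)
  have hX : ∀ (i : Fin (numVars n)) y, y ∈ Submodule.span (ZMod 2) S →
      Ideal.Quotient.mk (truncIdeal n) (X i) * y ∈ Submodule.span (ZMod 2) S := by
    intro i y hy
    rw [← eps_eq]
    rcases (show i.val = 0 ∨ i.val = 1 ∨ 2 ≤ i.val by omega) with h | h | h
    · rw [h]; exact hT y hy
    · rw [h]; exact hU y hy
    · have e : eps n (i.val + 1) * y = F ⟨i, h⟩ * y + T n ^ (2 * (i.val + 1) - 4) * (U n * y) := by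
        simp only [F]
        linear_combination (-(T n ^ (2 * (i.val + 1) - 4) * (U n * y))) * two_eq_zero n
      rw [e]
      exact add_mem (hF _ y hy) (hTk _ _ (hU y hy))
  have h1 : (1 : P n) ∈ Submodule.span (ZMod 2) S :=
    Submodule.subset_span ⟨(0, 0, 0), by simp [term, G]⟩
  rw [eq_top_iff]
  intro y hy
  clear hy
  refine hS ?_
  obtain ⟨p, rfl⟩ := Ideal.Quotient.mk_surjective y
  induction p using MvPolynomial.induction_on with
  | C a =>
    have : Ideal.Quotient.mk (truncIdeal n) (C a) = a • (1 : P n) := by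
      exact (Algebra.algebraMap_eq_smul_one a : algebraMap (ZMod 2) (P n) a = a • 1)
    rw [this]; exact Submodule.smul_mem _ a h1
  | add p q hp hq => rw [map_add]; exact add_mem hp hq
  | mul_X p i hp => rw [map_mul, mul_comm]; exact hX i _ hp

theorem card_Idx (hn : 2 ≤ n) : Fintype.card (Idx n) = ∏ i, bound n i := by
  classical
  have h2 := two_le_numVars hn
  simp only [Fintype.card_prod, Fintype.card_fin, Fintype.card_bool, Fintype.card_pi]
  rw [← Fintype.prod_subtype_mul_prod_subtype (fun i : Fin (numVars n) => 2 ≤ i.val) (bound n)]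
  rw [mul_comm (∏ i : {i : Fin (numVars n) // 2 ≤ i.val}, bound n i.1)]
  rw [show (∏ i : {i : Fin (numVars n) // ¬ 2 ≤ i.val}, bound n i.1) = n * 2 ^ klog n 2 from ?_]
  · rw [← two_mul_M hn, ← Finset.prod_congr rfl fun w _ => (show bound n w.1 = K w from
      bound_pos w.1 (by have := w.2; omega))]
    ring
  · rw [← Finset.prod_subtype {(⟨0, by omega⟩ : Fin (numVars n)), ⟨1, by omega⟩}
      (fun x => by simp [Fin.ext_iff]; omega) (bound n),
      Finset.prod_pair (by simp [Fin.ext_iff]), bound_zero _ rfl, bound_pos _ one_ne_zero]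

theorem card_le_finrank (hn : 2 ≤ n) : Fintype.card (Idx n) ≤ finrank (ZMod 2) (P n) := by
  classical
  let Box := (i : Fin (numVars n)) → Fin (bound n i)
  let m : Box → (Fin (numVars n) →₀ ℕ) := fun b => Finsupp.equivFunOnFinite.symm fun i => (b i : ℕ)
  let g : FreeP n →ₗ[ZMod 2] (Box → ZMod 2) := LinearMap.pi fun b => lcoeff (ZMod 2) (m b)
  have hker : ∀ p ∈ truncIdeal n, ∀ b : Box, ∀ m', m' ≤ m b → coeff m' p = 0 := by
    intro p hp
    induction hp using Submodule.span_induction with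
    | mem p hp =>
      obtain ⟨i, rfl⟩ := hp
      intro b m' hm'
      rw [coeff_X_pow, if_neg]
      rintro rfl
      have h1 : bound n i ≤ (b i : ℕ) := by simpa [m] using hm' i
      exact absurd (b i).2 (not_lt.mpr h1)
    | zero => simp
    | add p q _ _ hp hq => intro b m' hm'; rw [coeff_add, hp b m' hm', hq b m' hm', add_zero]
    | smul r p _ hp =>
      intro b m' hm'
      rw [smul_eq_mul, coeff_mul]
      refine Finset.sum_eq_zero fun x hx => ?_
      rw [hp b x.2 ((Finset.HasAntidiagonal.antidiagonal.snd_le hx).trans hm'), mul_zero]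
  have hg : Function.Surjective g := by
    intro c
    refine ⟨∑ b, monomial (m b) (c b), funext fun b => ?_⟩
    simp only [g, LinearMap.pi_apply, lcoeff_apply, coeff_sum, coeff_monomial]
    rw [Finset.sum_eq_single b]
    · simp
    · intro b' _ hb'
      rw [if_neg]
      intro e
      refine hb' (funext fun i => Fin.ext ?_)
      simpa [m] using DFunLike.congr_fun e i
    · simp
  let mkq : FreeP n →ₗ[ZMod 2] P n := (Ideal.Quotient.mkₐ (ZMod 2) (truncIdeal n)).toLinearMap
  obtain ⟨s, hs⟩ := mkq.exists_rightInverse_of_surjective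
    (LinearMap.range_eq_top.mpr Ideal.Quotient.mk_surjective)
  have hfac : ∀ p, (g ∘ₗ s) (mkq p) = g p := by
    intro p
    have h1 : mkq (s (mkq p)) = mkq p := LinearMap.congr_fun hs (mkq p)
    have h2 : s (mkq p) - p ∈ truncIdeal n := Ideal.Quotient.eq.mp h1
    funext b
    have := hker _ h2 b _ le_rfl
    rw [coeff_sub, sub_eq_zero] at this
    exact this
  have : Module.Finite (ZMod 2) (P n) :=
    Module.Finite.of_fg_top ⟨Finset.univ.image el, by simpa using span_el hn⟩
  calc Fintype.card (Idx n) = finrank (ZMod 2) (Box → ZMod 2) := by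
        rw [finrank_fintype_fun_eq_card, card_Idx hn, Fintype.card_pi]
        simp
    _ ≤ finrank (ZMod 2) (P n) := LinearMap.finrank_le_finrank_of_surjective (f := g ∘ₗ s)
        fun c => by obtain ⟨p, hp⟩ := hg c; exact ⟨mkq p, (hfac p).trans hp⟩

/-- The adapted basis. -/
def basis (hn : 2 ≤ n) : Basis (Idx n) (ZMod 2) (P n) :=
  Basis.mk (v := el) (by
    exact linearIndependent_of_top_le_span_of_card_le_finrank (span_el hn).ge (card_le_finrank hn))
    (span_el hn).ge

@[simp] theorem basis_apply (hn : 2 ≤ n) (x : Idx n) : basis hn x = el x := Basis.mk_apply _ _ x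

end Groth.L14.QsChow
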