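import Groth.Agent.L14.QsChow.Tau

/-!
The relations of the fixed subalgebra.
-/

set_option autoImplicit false

noncomputable section

open MvPolynomial Module

namespace Groth.L14.QsChow

open _root_.QsChow

variable {n : ℕ}

/-- The image of a monomial modulo the relations. -/
def cl (a i c : ℕ) (β : W n → ℕ) : FreeE n ⧸ presIdeal n :=
  Ideal.Quotient.mk (presIdeal n) (mon a i c β)

/-- Indices of normal forms. -/
abbrev NF (n : ℕ) :=
  (Fin n × Fin (M n) × ((w : W n) → Fin (K w))) ⊕ (Fin (M n) × ((w : W n) → Fin (K w)))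

/-- Normal forms. -/
def nf : NF n → FreeE n
  | .inl x => mon x.1 x.2.1 0 fun w => (x.2.2 w : ℕ)
  | .inr x => mon 0 x.1 1 fun w => (x.2 w : ℕ)

/-- The basis index of the image of a normal form. -/
def nfIdx (h : 0 < n) : NF n → Idx n
  | .inl x => (x.1, x.2.1, false, x.2.2)
  | .inr x => (⟨n - 1, by omega⟩, x.1, true, x.2)

local notation "qm" => Ideal.Quotient.mk (presIdeal _)

variable (hn : 2 ≤ n)
include hn

theorem phi_sPoly (j : ℕ) :
    phi n (sPoly n j) = U n ^ 2 ^ klog n j + T n ^ (2 ^ klog n j - 1) * U n := by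
  simp only [sPoly, map_sum, map_mul, map_pow, phi_e1 hn, phi_e2 hn]
  linear_combination (norm := ring_nf) -(U_pow_two_pow (n := n) (klog n j)) -
    T n ^ (2 ^ klog n j - 1) * U n * two_eq_zero n

theorem phi_hrel (j : ℕ) : phi n (hrel n j) = 0 := by
  rw [hrel]
  split_ifs with h2 h3
  · rw [map_add, map_mul, map_pow, phi_sPoly hn, phi_e1 hn, phi_x, U_pow hn le_rfl]
    have hk := le_K2 (n := n) (by omega)
    have e : T n ^ (2 ^ klog n 2 - n) * T n ^ (n - 1) = T n ^ (2 ^ klog n 2 - 1) := by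
      rw [← pow_add]; congr 1; omega
    linear_combination U n * e + T n ^ (2 ^ klog n 2 - 1) * U n * two_eq_zero n
  · have hw : 2 ≤ j - 1 := by omega
    let w : W n := ⟨⟨j - 1, by omega⟩, hw⟩
    have hj : w.1.val + 1 = j := by show j - 1 + 1 = j; omega
    have e1 := phi_ev (n := n) w
    have e2 := F_pow (n := n) w
    have e3 : K w = 2 ^ klog n j := by show 2 ^ klog n (w.1.val + 1) = _; rw [hj]
    rw [hj] at e1
    rw [hj, e3] at e2
    simp only [map_add, map_mul, map_pow, phi_sPoly hn, phi_e1 hn, phi_x, e1]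
    rw [e2]
    set k := 2 ^ klog n j
    have hk := le_klog (n := n) (by omega) (show 2 ≤ j by omega)
    have hk1 : 1 ≤ k := Nat.one_le_two_pow
    have hsplit : (2 * j - 3) * k = (2 * j - 4) * k + k := by
      rw [show 2 * j - 3 = (2 * j - 4) + 1 by omega, add_mul, one_mul]
    have e4 : T n ^ ((2 * j - 3) * k - n) * T n ^ (n - 1) =
        T n ^ ((2 * j - 4) * k) * T n ^ (k - 1) := by
      rw [← pow_add, ← pow_add]; congr 1; change n ≤ (2 * j - 3) * k at hk; omega
    linear_combination U n * e4 + (T n ^ ((2 * j - 4) * k) * U n ^ k +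
      T n ^ ((2 * j - 4) * k) * T n ^ (k - 1) * U n) * two_eq_zero n
  · rw [map_zero]

theorem presIdeal_le : presIdeal n ≤ RingHom.ker (phi n) := by
  rw [presIdeal, Ideal.span_le]
  rintro q ((rfl | rfl | rfl) | ⟨i, rfl⟩) <;> rw [SetLike.mem_coe, RingHom.mem_ker]
  · rw [map_pow, phi_e1 hn, T_pow hn le_rfl]
  · rw [map_mul, phi_e1 hn, phi_x, ← mul_assoc, ← pow_succ', T_pow hn (by omega), zero_mul]
  · rw [map_pow, phi_x, mul_pow, ← pow_mul, T_pow hn (by omega), zero_mul]
  · exact phi_hrel hn _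

omit hn in
theorem mem_pres {q : FreeE n} (h : q ∈ ({evar n 1 ^ n, evar n 1 * xvar n, xvar n ^ 2} ∪
    Set.range fun i : Fin (numVars n) => hrel n (i.val + 1) : Set (FreeE n))) :
    Ideal.Quotient.mk (presIdeal n) q = 0 :=
  Ideal.Quotient.eq_zero_iff_mem.mpr (Ideal.subset_span h)

theorem two_eq_zero' : (2 : FreeE n ⧸ presIdeal n) = 0 := by
  rw [← map_ofNat (algebraMap (ZMod 2) (FreeE n ⧸ presIdeal n)) 2,
    show (2 : ZMod 2) = 0 from by decide, map_zero]

theorem cl_mem (a i c : ℕ) (β : W n → ℕ) :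
    cl a i c β ∈ Submodule.span (ZMod 2) (Set.range fun x => Ideal.Quotient.mk (presIdeal n) (nf x)) := by
  classical
  induction hN : ∑ w, β w using Nat.strong_induction_on generalizing a i c β with
  | _ N ih =>
  by_cases hβ : ∃ w, K w ≤ β w
  · obtain ⟨w, hw⟩ := hβ
    set β' := β - Pi.single w (K w) with hβ'
    have hb : β = β' + Pi.single w (K w) := by
      funext x
      by_cases hx : x = w
      · subst hx; simp [β']; omega
      · simp [β', hx]
    have hlt : ∑ x, β' x < N := by
      rw [← hN]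
      conv_rhs => rw [hb]
      simp only [Pi.add_apply, Finset.sum_add_distrib, Finset.sum_pi_single', Finset.mem_univ, if_true]
      have : 0 < K w := Nat.two_pow_pos _
      omega
    obtain ⟨j, hj⟩ : ∃ j, j = w.1.val + 1 := ⟨_, rfl⟩
    have hm : mon a i c β = mon a i c β' * evar n j ^ K w := by
      rw [hb, hj]
      simp only [mon, Pi.add_apply, pow_add, Finset.prod_mul_distrib]
      rw [Fintype.prod_eq_single (f := fun x : W n => evar n (x.1.val + 1) ^ (Pi.single w (K w) : W n → ℕ) x) w]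
      · rw [Pi.single_eq_same]; ring
      · intro b hb'; simp [hb']
    have hmon : cl a i c β = cl a i c β' * qm (evar n j) ^ K w := by
      rw [cl, cl, hm, RingHom.map_mul, RingHom.map_pow]
    have hrel0 : qm (hrel n j) = 0 := hj ▸ mem_pres (Or.inr ⟨w.1, rfl⟩)
    rw [hrel, if_neg (by have := w.2; omega), if_pos ⟨by have := w.2; omega, by have := w.1.2; omega⟩,
      sPoly] at hrel0
    simp only [map_add, map_mul, map_pow, map_sum] at hrel0
    have hK : K w = 2 ^ klog n j := by rw [hj]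
    rw [hK] at hmon
    generalize 2 ^ klog n j = q at hK hmon hrel0 ⊢
    rw [Finset.mul_sum] at hrel0
    set e := 2 * j - 3
    set e' := 2 * j - 4
    have hsub : cl a i c β = cl (a + (e * q - n)) i (c + 1) β' +
        ∑ t ∈ Finset.range (klog n j),
          cl (a + e' * q + (q - 2 ^ (t + 1))) (i + 2 ^ t) c β' := by
      rw [hmon]
      simp only [cl, mon, map_mul, map_pow, map_prod, pow_add, pow_one] at ⊢
      have hP : qm (evar n j) ^ q = qm (evar n 1) ^ (e * q - n) * qm (xvar n) +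
          ∑ t ∈ Finset.range (klog n j), qm (evar n 1) ^ (e' * q) *
            (qm (evar n 1) ^ (q - 2 ^ (t + 1)) * qm (evar n 2) ^ 2 ^ t) := by
        linear_combination hrel0 - (qm (evar n 1) ^ (e * q - n) * qm (xvar n) +
          ∑ t ∈ Finset.range (klog n j), qm (evar n 1) ^ (e' * q) *
            (qm (evar n 1) ^ (q - 2 ^ (t + 1)) * qm (evar n 2) ^ 2 ^ t)) * two_eq_zero' hn
      rw [hP, mul_add, Finset.mul_sum]
      refine congrArg₂ (· + ·) ?_ (Finset.sum_congr rfl fun t _ => by ring)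
      ring
    rw [hsub]
    exact add_mem (ih _ hlt _ _ _ β' rfl) (Submodule.sum_mem _ fun t _ => ih _ hlt _ _ _ β' rfl)
  push Not at hβ
  induction i using Nat.strong_induction_on generalizing a c with
  | _ i ihi =>
  have h0 : qm (evar n 1) ^ n = 0 := by
    rw [← map_pow]; exact mem_pres (Or.inl (by simp))
  have hx2 : qm (xvar n) ^ 2 = 0 := by
    rw [← map_pow]; exact mem_pres (Or.inl (by simp))
  have h1x : qm (evar n 1) * qm (xvar n) = 0 := by
    rw [← map_mul]; exact mem_pres (Or.inl (by simp))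
  by_cases ha : n ≤ a
  · obtain ⟨r, rfl⟩ := Nat.exists_eq_add_of_le ha
    have : cl (n + r) i c β = 0 := by
      rw [cl, mon, pow_add, map_mul, map_mul, map_mul, map_mul, map_pow, h0]
      simp only [zero_mul]
    rw [this]; exact zero_mem _
  by_cases hc : 2 ≤ c
  · obtain ⟨r, rfl⟩ := Nat.exists_eq_add_of_le hc
    have : cl a i (2 + r) β = 0 := by
      rw [cl, mon, pow_add, map_mul, map_mul, map_mul, map_mul, map_pow qm (xvar n) 2, hx2]
      simp only [zero_mul, mul_zero]
    rw [this]; exact zero_mem _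
  by_cases hac : c = 1 ∧ 1 ≤ a
  · obtain ⟨rfl, ha1⟩ := hac
    obtain ⟨r, rfl⟩ := Nat.exists_eq_add_of_le ha1
    have : cl (1 + r) i 1 β = 0 := by
      rw [cl, mon, pow_add, pow_one, pow_one, map_mul, map_mul, map_mul, map_mul]
      linear_combination (qm (evar n 1 ^ r) * qm (evar n 2 ^ i) *
        qm (∏ w, evar n (w.1.val + 1) ^ β w)) * h1x
    rw [this]; exact zero_mem _
  by_cases hi : i < M n
  · rcases (show c = 0 ∨ c = 1 by omega) with rfl | rfl
    · exact Submodule.subset_span
        ⟨.inl (⟨a, by omega⟩, ⟨i, hi⟩, fun w => ⟨β w, hβ w⟩), rfl⟩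
    · obtain rfl : a = 0 := by by_contra h; exact hac ⟨rfl, by omega⟩
      exact Submodule.subset_span ⟨.inr (⟨i, hi⟩, fun w => ⟨β w, hβ w⟩), rfl⟩
  obtain ⟨i', rfl⟩ : ∃ i', i = i' + M n := ⟨i - M n, by omega⟩
  obtain ⟨k, hk⟩ : ∃ k, klog n 2 = k + 1 := ⟨klog n 2 - 1, by have := one_le_klog hn; omega⟩
  have hM : M n = 2 ^ k := by show 2 ^ (klog n 2 - 1) = _; rw [hk]; rfl
  have hrel0 : qm (hrel n 2) = 0 :=
    mem_pres (Or.inr ⟨⟨1, two_le_numVars hn⟩, rfl⟩)
  rw [hrel, if_pos rfl, sPoly, hk, Finset.sum_range_succ, Nat.sub_self, pow_zero, one_mul, ← hM] at hrel0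
  simp only [map_add, map_mul, map_pow, map_sum] at hrel0
  have hsub : cl a (i' + M n) c β = cl (a + (2 ^ (k + 1) - n)) i' (c + 1) β +
      ∑ t ∈ Finset.range k, cl (a + (2 ^ (k + 1) - 2 ^ (t + 1))) (i' + 2 ^ t) c β := by
    have hP : qm (evar n 2) ^ M n = qm (evar n 1) ^ (2 ^ (k + 1) - n) * qm (xvar n) +
        ∑ t ∈ Finset.range k, qm (evar n 1) ^ (2 ^ (k + 1) - 2 ^ (t + 1)) * qm (evar n 2) ^ 2 ^ t := by
      linear_combination hrel0 - (qm (evar n 1) ^ (2 ^ (k + 1) - n) * qm (xvar n) +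
        ∑ t ∈ Finset.range k, qm (evar n 1) ^ (2 ^ (k + 1) - 2 ^ (t + 1)) * qm (evar n 2) ^ 2 ^ t) *
          two_eq_zero' hn
    simp only [cl, mon, map_mul, map_pow, pow_add, pow_one] at hP ⊢
    rw [hP]
    simp only [mul_add, add_mul, Finset.mul_sum, Finset.sum_mul]
    refine congrArg₂ (· + ·) ?_ (Finset.sum_congr rfl fun t _ => by ring)
    ring
  rw [hsub]
  refine add_mem (ihi i' (by have := Nat.two_pow_pos k; omega) _ _) (Submodule.sum_mem _ fun t ht => ihi _ ?_ _ _)
  have := Nat.pow_lt_pow_right (one_lt_two) (Finset.mem_range.mp ht)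
  omega

theorem span_nf :
    Submodule.span (ZMod 2) (Set.range fun x => Ideal.Quotient.mk (presIdeal n) (nf x)) = ⊤ := by
  classical
  set S : Set (FreeE n ⧸ presIdeal n) :=
    Set.range fun x : ℕ × ℕ × ℕ × (W n → ℕ) => cl x.1 x.2.1 x.2.2.1 x.2.2.2
  have hS : Submodule.span (ZMod 2) S ≤
      Submodule.span (ZMod 2) (Set.range fun x => Ideal.Quotient.mk (presIdeal n) (nf x)) :=
    Submodule.span_le.mpr fun _ ⟨x, hx⟩ => hx ▸ cl_mem hn _ _ _ _
  have hX : ∀ (o : Option (Fin (numVars n))) y, y ∈ Submodule.span (ZMod 2) S →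
      Ideal.Quotient.mk (presIdeal n) (X o) * y ∈ Submodule.span (ZMod 2) S := by
    intro o y hy
    induction hy using Submodule.span_induction with
    | mem y hy =>
      obtain ⟨⟨a, i, c, β⟩, rfl⟩ := hy
      refine Submodule.subset_span ?_
      have hX' : ∀ l : Fin (numVars n), (X (some l) : FreeE n) = evar n (l.val + 1) := fun l => by
        rw [evar, dif_pos ⟨Nat.succ_pos _, l.2⟩]; congr
      cases o with
      | none =>
        exact ⟨(a, i, c + 1, β), by simp only [cl, mon, xvar, map_mul, map_pow]; ring⟩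
      | some l =>
        rw [hX']
        rcases (show l.val = 0 ∨ l.val = 1 ∨ 2 ≤ l.val by omega) with h | h | h
        · rw [h]; exact ⟨(a + 1, i, c, β), by simp only [cl, mon, map_mul, map_pow]; ring⟩
        · rw [h]; exact ⟨(a, i + 1, c, β), by simp only [cl, mon, map_mul, map_pow]; ring⟩
        · refine ⟨(a, i, c, β + Pi.single ⟨l, h⟩ 1), ?_⟩
          simp only [cl, mon, map_mul, map_pow, map_prod, Pi.add_apply, pow_add,
            Finset.prod_mul_distrib]
          rw [Fintype.prod_eq_single (f := fun x : W n =>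
            Ideal.Quotient.mk (presIdeal n) (evar n (x.1.val + 1)) ^
              (Pi.single (⟨l, h⟩ : W n) 1 : W n → ℕ) x) ⟨l, h⟩ (fun b hb => by simp [hb])]
          simp only [Pi.single_eq_same]
          ring
    | zero => simp
    | add _ _ _ _ h h' => rw [mul_add]; exact add_mem h h'
    | smul r _ _ h => rw [mul_smul_comm]; exact Submodule.smul_mem _ r h
  have h1 : (1 : FreeE n ⧸ presIdeal n) ∈ Submodule.span (ZMod 2) S :=
    Submodule.subset_span ⟨(0, 0, 0, 0), by simp [cl, mon]⟩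
  rw [eq_top_iff]
  intro y hy
  clear hy
  refine hS ?_
  obtain ⟨p, rfl⟩ := Ideal.Quotient.mk_surjective y
  induction p using MvPolynomial.induction_on with
  | C a =>
    have : Ideal.Quotient.mk (presIdeal n) (C a) = a • (1 : FreeE n ⧸ presIdeal n) :=
      (Algebra.algebraMap_eq_smul_one a : algebraMap (ZMod 2) (FreeE n ⧸ presIdeal n) a = a • 1)
    rw [this]; exact Submodule.smul_mem _ a h1
  | add p q hp hq => rw [map_add]; exact add_mem hp hq
  | mul_X p i hp => rw [map_mul, mul_comm]; exact hX i _ hp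

theorem phi_nf (x : NF n) : phi n (nf x) = el (nfIdx (by omega) x) := by
  rcases x with x | x
  · simp only [nf, nfIdx, el, phi_mon_zero hn, Bool.toNat_false]
  · simp only [nf, nfIdx, el, phi_mon_one hn, Bool.toNat_true]

theorem linearIndependent_phi_nf : LinearIndependent (ZMod 2) fun x : NF n => phi n (nf x) := by
  have hinj : Function.Injective (nfIdx (n := n) (by omega)) := by
    rintro (x | x) (y | y) h
    · simp only [nfIdx, Prod.mk.injEq] at h
      exact congrArg Sum.inl (Prod.ext h.1 (Prod.ext h.2.1 h.2.2.2))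
    · simp [nfIdx] at h
    · simp [nfIdx] at h
    · simp only [nfIdx, Prod.mk.injEq] at h
      exact congrArg Sum.inr (Prod.ext h.2.1 h.2.2.2)
  have h := (basis hn).linearIndependent.comp _ hinj
  have e : (fun x : NF n => phi n (nf x)) = basis hn ∘ nfIdx (by omega) := by
    funext x; simp [phi_nf hn]
  rwa [e]

theorem exists_nf (q : FreeE n) :
    ∃ c : NF n → ZMod 2, q - ∑ x, c x • nf x ∈ presIdeal n := by
  have h := (span_nf hn).ge (Submodule.mem_top : Ideal.Quotient.mk (presIdeal n) q ∈ ⊤)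
  obtain ⟨c, hc⟩ := (Submodule.mem_span_range_iff_exists_fun (ZMod 2)).mp h
  refine ⟨c, ?_⟩
  rw [← Ideal.Quotient.eq]
  rw [← Ideal.Quotient.mkₐ_eq_mk (ZMod 2), map_sum]
  simp only [map_smul]
  exact hc.symm

theorem ker_phi : RingHom.ker (phi n) = presIdeal n := by
  classical
  refine le_antisymm (fun q hq => ?_) (presIdeal_le hn)
  obtain ⟨c, hc⟩ := exists_nf hn q
  have h0 := presIdeal_le hn hc
  rw [RingHom.mem_ker] at h0 hq
  rw [map_sub, hq, map_sum, zero_sub, neg_eq_zero] at h0
  simp only [map_smul] at h0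
  have := Fintype.linearIndependent_iff.mp (linearIndependent_phi_nf hn) c h0
  simpa [this] using hc

end Groth.L14.QsChow
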