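import Groth.Agent.L14.QsChow.Kernel
import Groth.Prelude.Def_W4c4chowquasisplitPn2

/-!
The fixed subalgebra modulo `ε₁` for odd parameters.
-/

set_option autoImplicit false

noncomputable section

open MvPolynomial

namespace Groth.L14.QsChow

open _root_.QsChow

variable {n : ℕ}

theorem log_two_mul_div_eq (hodd : Odd n) {d : ℕ} (hd : 0 < d) (hne : d ≠ n) :
    Nat.log 2 (2 * n / d) = Nat.log 2 ((2 * n - 1) / d) := by
  obtain ⟨c, hc⟩ := hodd
  by_cases h : d ∣ 2 * n
  · obtain ⟨m, hm⟩ := h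
    have hm0 : 0 < m := by rcases Nat.eq_zero_or_pos m with rfl | h <;> omega
    have h1 : (2 * n - 1) / d = m - 1 := by
      apply Nat.div_eq_of_lt_le
      · have := Nat.sub_mul m 1 d; rw [Nat.mul_comm m d] at this; omega
      · have h2 : (m - 1 + 1) = m := by omega
        rw [h2, Nat.mul_comm m d]; omega
    rw [h1, hm, Nat.mul_div_cancel_left _ hd]
    rcases eq_or_lt_of_le (show 1 ≤ m from hm0) with h2 | h2
    · subst h2; simp
    have hl := Nat.pow_log_le_self 2 (show m ≠ 0 by omega)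
    refine le_antisymm (Nat.le_log_of_pow_le one_lt_two ?_) (Nat.log_mono_right (Nat.sub_le m 1))
    by_contra hcon
    have hpow : m = 2 ^ Nat.log 2 m := by omega
    have hcase : Nat.log 2 m = 0 ∨ Nat.log 2 m = 1 ∨ 2 ≤ Nat.log 2 m := by omega
    rcases hcase with h3 | h3 | h3
    · rw [h3] at hpow; omega
    · rw [h3] at hpow; rw [hpow] at hm; omega
    · obtain ⟨e, he⟩ : ∃ e, Nat.log 2 m = e + 2 := ⟨Nat.log 2 m - 2, by omega⟩
      rw [he, pow_succ, pow_succ] at hpow
      have : d * m = 4 * (d * 2 ^ e) := by rw [hpow]; ring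
      omega
  · have : 2 * n / d = (2 * n - 1) / d := by
      refine (Nat.div_eq_of_lt_le ?_ ?_).symm
      · have h1 := Nat.div_mul_le_self (2 * n) d
        rcases eq_or_lt_of_le h1 with h2 | h2
        · exact absurd ⟨2 * n / d, h2.symm.trans (Nat.mul_comm _ _)⟩ h
        · omega
      · have h1 := Nat.lt_div_mul_add (a := 2 * n) hd
        rw [add_mul, one_mul]; omega
    rw [this]

theorem kprime_two (hn : 2 ≤ n) (hodd : Odd n) : kprime n 2 + 1 = klog n 2 := by
  rw [kprime, if_neg (by omega), if_pos rfl]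
  have h := log_two_mul_div_eq hodd (d := 1) one_pos (by omega)
  simp only [Nat.div_one] at h
  show _ = Nat.log 2 ((2 * n - 1) / (2 * 2 - 3))
  rw [show 2 * 2 - 3 = 1 from rfl, Nat.div_one, ← h, Nat.mul_comm, Nat.log_mul_base one_lt_two (by omega)]

theorem kprime_ge_three (hodd : Odd n) {j : ℕ} (hj : 3 ≤ j) (hjs : j ≤ numVars n) :
    kprime n j = klog n j := by
  rw [kprime, if_neg (by omega), if_neg (by omega)]
  refine log_two_mul_div_eq hodd (by omega) ?_
  obtain ⟨c, hc⟩ := hodd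
  unfold numVars at hjs
  omega

theorem pow_mem_span (a : ℕ) (ha : 1 ≤ a) (r : FreeE n) :
    evar n 1 ^ a * r ∈ Ideal.span ({evar n 1} : Set (FreeE n)) :=
  Ideal.mul_mem_right _ _ (Ideal.pow_mem_of_mem _ (Ideal.mem_span_singleton_self _) a ha)

variable (hn : 2 ≤ n) (hodd : Odd n)
include hn hodd

theorem hrel_two_sub : hrel n 2 - evar n 2 ^ 2 ^ kprime n 2 ∈ Ideal.span ({evar n 1} : Set (FreeE n)) := by
  obtain ⟨c, hc⟩ := id hodd
  have hk := le_K2 (n := n) (by omega)
  have h1 := kprime_two hn hodd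
  rw [hrel, if_pos rfl, sPoly, ← h1, Finset.sum_range_succ, Nat.sub_self, pow_zero, one_mul,
    ← add_assoc, add_sub_cancel_right]
  refine add_mem (pow_mem_span _ ?_ _) (Submodule.sum_mem _ fun t ht => pow_mem_span _ ?_ _)
  · rw [← h1] at hk
    have : 2 ^ (kprime n 2 + 1) = 2 * 2 ^ kprime n 2 := pow_succ' 2 _
    omega
  · have := Nat.pow_lt_pow_right (a := 2) one_lt_two
      (show t + 1 < kprime n 2 + 1 by have := Finset.mem_range.mp ht; omega)
    omega

theorem hrel_sub {j : ℕ} (hj : 3 ≤ j) (hjs : j ≤ numVars n) :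
    hrel n j - evar n j ^ 2 ^ kprime n j ∈ Ideal.span ({evar n 1} : Set (FreeE n)) := by
  obtain ⟨c, hc⟩ := id hodd
  rw [kprime_ge_three hodd hj hjs, hrel, if_neg (by omega), if_pos ⟨hj, hjs⟩, add_assoc,
    add_sub_cancel_left]
  have hk := le_klog (n := n) (by omega) (show 2 ≤ j by omega)
  refine add_mem (pow_mem_span _ ?_ _) (pow_mem_span _ ?_ _)
  · rcases Nat.eq_zero_or_pos (klog n j) with h | h
    · rw [h] at hk ⊢; unfold numVars at hjs; omega
    · obtain ⟨e, he⟩ : ∃ e, klog n j = e + 1 := ⟨klog n j - 1, by omega⟩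
      rw [he] at hk ⊢
      rw [pow_succ, ← mul_assoc] at hk ⊢
      omega
  · exact Nat.mul_pos (by omega) (Nat.two_pow_pos _)

theorem pres_sup_eq : presIdeal n ⊔ Ideal.span {evar n 1} = oddIdeal n := by
  have he1 : evar n 1 ∈ oddIdeal n := Ideal.subset_span (by simp)
  have hspan : Ideal.span ({evar n 1} : Set (FreeE n)) ≤ oddIdeal n :=
    (Ideal.span_singleton_le_iff_mem _).mpr he1
  have hk1 : kprime n 1 = 0 := by
    rw [kprime, if_pos rfl, twoExp]
    refine padicValNat.eq_zero_of_not_dvd fun h => ?_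
    obtain ⟨c, hc⟩ := hodd
    omega
  have key : ∀ i : Fin (numVars n), hrel n (i.val + 1) - evar n (i.val + 1) ^ 2 ^ kprime n (i.val + 1) ∈
      Ideal.span ({evar n 1} : Set (FreeE n)) := by
    intro i
    rcases (show i.val = 0 ∨ i.val = 1 ∨ 2 ≤ i.val by omega) with h | h | h
    · rw [h, hk1, hrel, if_neg (by omega), if_neg (by omega), zero_sub]
      exact neg_mem (by simpa using Ideal.mem_span_singleton_self (evar n 1))
    · rw [h]; exact hrel_two_sub hn hodd
    · exact hrel_sub hn hodd (by omega) (by omega)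
  apply le_antisymm
  · refine sup_le ?_ hspan
    rw [presIdeal, Ideal.span_le]
    rintro q ((rfl | rfl | rfl) | ⟨i, rfl⟩)
    · exact Ideal.pow_mem_of_mem _ he1 n (by omega)
    · exact Ideal.mul_mem_right _ _ he1
    · exact Ideal.subset_span (by simp)
    · have h1 : evar n (i.val + 1) ^ 2 ^ kprime n (i.val + 1) ∈ oddIdeal n :=
        Ideal.subset_span (Or.inr ⟨i, rfl⟩)
      simpa using add_mem h1 (hspan (key i))
  · rw [oddIdeal, Ideal.span_le]
    rintro q ((rfl | rfl) | ⟨i, rfl⟩)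
    · exact Ideal.mem_sup_right (Ideal.mem_span_singleton_self _)
    · exact Ideal.mem_sup_left (Ideal.subset_span (by simp))
    · have h1 : hrel n (i.val + 1) ∈ presIdeal n := Ideal.subset_span (Or.inr ⟨i, rfl⟩)
      have h2 := sub_mem (Ideal.mem_sup_left (T := Ideal.span {evar n 1}) h1) (Ideal.mem_sup_right (key i))
      simpa using h2

theorem odd_iff (τ : P n →ₐ[ZMod 2] P n) (hτ1 : τ (eps n 1) = eps n 1)
    (hτ : ∀ j : ℕ, 2 ≤ j → j ≤ numVars n → τ (eps n j) = eps n j + eps n 1 ^ (2 * j - 3))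
    (q : FreeE n) :
    (∃ w : P n, τ w = w ∧ phi n q = eps n 1 * w) ↔ q ∈ oddIdeal n := by
  rw [← pres_sup_eq hn hodd]
  constructor
  · rintro ⟨w, hw, h⟩
    obtain ⟨r, hr⟩ := (range_phi hn τ hτ1 hτ).ge hw
    have h1 : q - evar n 1 * r ∈ presIdeal n := by
      rw [← ker_phi hn, RingHom.mem_ker, map_sub, map_mul, phi_e1 hn, show phi n r = w from hr, h,
        sub_self]
    simpa using add_mem (Ideal.mem_sup_left (T := Ideal.span {evar n 1}) h1)
      (Ideal.mem_sup_right (S := presIdeal n) (Ideal.mul_mem_right r _ (Ideal.mem_span_singleton_self _)))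
  · intro h
    obtain ⟨a, ha, b, hb, rfl⟩ := Submodule.mem_sup.mp h
    obtain ⟨r, rfl⟩ := Ideal.mem_span_singleton'.mp hb
    refine ⟨phi n r, (range_phi hn τ hτ1 hτ).le ⟨r, rfl⟩, ?_⟩
    rw [map_add, RingHom.mem_ker.mp (presIdeal_le hn ha), zero_add, map_mul, phi_e1 hn, mul_comm]

end Groth.L14.QsChow
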