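import Groth.Agent.L14.QsChow.Basis
import Mathlib.Algebra.Algebra.Subalgebra.Basic

/-!
The fixed subalgebra of the involution of the truncated algebra.
-/

set_option autoImplicit false

noncomputable section

open MvPolynomial Module

namespace Groth.L14.QsChow

open _root_.QsChow

variable {n : ℕ} (hn : 2 ≤ n)
include hn

/-- Remove the `ε₂` factor of a basis vector. -/
def sh : P n →ₗ[ZMod 2] P n :=
  (basis hn).constr (ZMod 2) fun x => if x.2.2.1 then el (x.1, x.2.1, false, x.2.2.2) else 0

theorem sh_el (x : Idx n) :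
    sh hn (el x) = if x.2.2.1 then el (x.1, x.2.1, false, x.2.2.2) else 0 := by
  rw [sh, ← basis_apply hn x, Basis.constr_basis]

theorem sh_term (a : ℕ) (i : Fin (M n)) (δ : Bool) (β : (w : W n) → Fin (K w)) :
    sh hn (term n a i δ.toNat fun w => (β w : ℕ)) =
      if δ then term n a i 0 (fun w => (β w : ℕ)) else 0 := by
  by_cases ha : a < n
  · exact sh_el hn (⟨a, ha⟩, i, δ, β)
  · simp [term, T_pow hn (not_lt.mp ha)]

theorem sh_T_mul (y : P n) : sh hn (T n * y) = T n * sh hn y := by
  have : sh hn ∘ₗ LinearMap.mulLeft (ZMod 2) (T n) = LinearMap.mulLeft (ZMod 2) (T n) ∘ₗ sh hn := by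
    refine (basis hn).ext fun x => ?_
    obtain ⟨a, i, δ, β⟩ := x
    simp only [LinearMap.comp_apply, LinearMap.mulLeft_apply, basis_apply, sh_el]
    have e : ∀ c, T n * term n a i c (fun w => (β w : ℕ)) =
        term n ((a : ℕ) + 1) i c (fun w => (β w : ℕ)) := fun c => by simp only [term]; ring
    show sh hn (T n * term n a i δ.toNat _) = _
    rw [e, sh_term]
    cases δ
    · simp
    · simp only [if_true]
      exact (e 0).symm
  exact LinearMap.congr_fun this y

theorem sh_T_pow_mul (m : ℕ) (y : P n) : sh hn (T n ^ m * y) = T n ^ m * sh hn y := by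
  induction m generalizing y with
  | zero => simp
  | succ m ih => rw [pow_succ, mul_assoc, ih, sh_T_mul, mul_assoc]

theorem sh_sh (y : P n) : sh hn (sh hn y) = 0 := by
  have : sh hn ∘ₗ sh hn = 0 := by
    refine (basis hn).ext fun x => ?_
    simp only [LinearMap.comp_apply, LinearMap.zero_apply, basis_apply, sh_el]
    split_ifs <;> simp [sh_el]
  exact LinearMap.congr_fun this y

section

variable (τ : P n →ₐ[ZMod 2] P n) (hτ1 : τ (eps n 1) = eps n 1)
  (hτ : ∀ j : ℕ, 2 ≤ j → j ≤ numVars n → τ (eps n j) = eps n j + eps n 1 ^ (2 * j - 3))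
include hτ1 hτ

theorem tau_U : τ (U n) = U n + T n := by
  rw [U, hτ 2 le_rfl (two_le_numVars hn)]; simp [T]

theorem tau_V : τ (V n) = V n := by
  rw [V, map_add, map_pow, map_mul, tau_U hn τ hτ1 hτ, hτ1]
  linear_combination (U n * T n + T n ^ 2) * two_eq_zero n

theorem tau_F (w : W n) : τ (F w) = F w := by
  rw [F, map_add, map_mul, map_pow, tau_U hn τ hτ1 hτ, hτ1,
    hτ _ (by have := w.2; omega) (by have := w.1.2; omega)]
  have e : 2 * (w.1.val + 1) - 3 = (2 * (w.1.val + 1) - 4) + 1 := by have := w.2; omega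
  rw [e, pow_succ]
  linear_combination (T n ^ (2 * (w.1.val + 1) - 4) * T n) * two_eq_zero n

theorem add_tau (y : P n) : y + τ y = T n * sh hn y := by
  have : (LinearMap.id : P n →ₗ[ZMod 2] P n) + τ.toLinearMap =
      LinearMap.mulLeft (ZMod 2) (T n) ∘ₗ sh hn := by
    refine (basis hn).ext fun x => ?_
    obtain ⟨a, i, δ, β⟩ := x
    simp only [LinearMap.add_apply, LinearMap.id_apply, LinearMap.comp_apply,
      LinearMap.mulLeft_apply, basis_apply, sh_el, AlgHom.toLinearMap_apply]
    show term n a i δ.toNat _ + τ (term n a i δ.toNat _) = _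
    simp only [term, G, map_mul, map_pow, map_prod, tau_F hn τ hτ1 hτ, tau_V hn τ hτ1 hτ,
      tau_U hn τ hτ1 hτ, hτ1]
    cases δ
    · simp only [Bool.toNat_false, pow_zero, mul_one, Bool.false_eq_true, if_false, mul_zero]
      exact add_self _
    · simp only [Bool.toNat_true, pow_one, if_true, el, term, G, Bool.toNat_false, pow_zero]
      linear_combination (T n ^ (a : ℕ) * V n ^ (i : ℕ) * U n * ∏ w, F w ^ (β w : ℕ)) * two_eq_zero n
  exact LinearMap.congr_fun this y

theorem fixed_iff (z : P n) : τ z = z ↔ T n * sh hn z = 0 := by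
  rw [← add_tau hn τ hτ1 hτ]
  constructor
  · intro h; rw [h]; exact add_self z
  · intro h; linear_combination h - z * two_eq_zero n

theorem sh_fixed (z : P n) : τ (sh hn z) = sh hn z := by
  rw [fixed_iff hn τ hτ1 hτ, sh_sh, mul_zero]

theorem tau_add_U_mul_sh (z : P n) : τ (z + U n * sh hn z) = z + U n * sh hn z := by
  rw [map_add, map_mul, tau_U hn τ hτ1 hτ, sh_fixed hn τ hτ1 hτ]
  linear_combination add_tau hn τ hτ1 hτ z + (T n * sh hn z - z) * two_eq_zero n

theorem range_add_tau :
    Set.range (fun y : P n => y + τ y) =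
      (fun z : P n => T n * z) '' (AlgHom.equalizer τ (AlgHom.id (ZMod 2) (P n)) : Set (P n)) := by
  ext x
  constructor
  · rintro ⟨y, rfl⟩
    exact ⟨sh hn y, sh_fixed hn τ hτ1 hτ y, (add_tau hn τ hτ1 hτ y).symm⟩
  · rintro ⟨z, hz, rfl⟩
    have hz' : τ z = z := hz
    refine ⟨U n * z, ?_⟩
    show U n * z + τ (U n * z) = T n * z
    rw [map_mul, tau_U hn τ hτ1 hτ, hz']
    linear_combination (U n * z) * two_eq_zero n

theorem add_tau_mem_pow (m : ℕ) (y : P n)
    (hy : y + τ y ∈ Ideal.span ({T n ^ m} : Set (P n))) :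
    ∃ z : P n, τ z = z ∧ y + τ y = T n ^ m * z := by
  obtain ⟨w, hw⟩ := Ideal.mem_span_singleton'.mp hy
  refine ⟨w + U n * sh hn w, tau_add_U_mul_sh hn τ hτ1 hτ w, ?_⟩
  have h0 : T n ^ m * sh hn w = 0 := by
    rw [← sh_T_pow_mul, mul_comm, hw, add_tau hn τ hτ1 hτ, sh_T_mul, sh_sh, mul_zero]
  linear_combination -hw - U n * h0

end

/-- The variable `e_j` for `j ≥ 3`. -/
abbrev ev (w : W n) : FreeE n := evar n (w.1.val + 1)

omit hn in
theorem phi_evar (i : Fin (numVars n)) : phi n (evar n (i.val + 1)) = genImage n (some i) := by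
  rw [evar, dif_pos ⟨Nat.succ_pos _, i.2⟩, phi, aeval_X]
  congr 1

theorem phi_e1 : phi n (evar n 1) = T n := by
  have h := phi_evar (n := n) ⟨0, by have := two_le_numVars hn; omega⟩
  simpa [genImage] using h

theorem phi_e2 : phi n (evar n 2) = V n := by
  have h := phi_evar (n := n) ⟨1, two_le_numVars hn⟩
  simpa [genImage] using h

omit hn in
theorem phi_ev (w : W n) : phi n (evar n (w.1.val + 1)) = F w := by
  rw [phi_evar, genImage, if_neg (by have := w.2; omega), if_neg (by have := w.2; omega)]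

omit hn in
theorem phi_x : phi n (xvar n) = T n ^ (n - 1) * U n := by
  rw [xvar, phi, aeval_X, genImage]

omit hn in
/-- A monomial in the second algebra. -/
def mon (a i c : ℕ) (β : W n → ℕ) : FreeE n :=
  evar n 1 ^ a * evar n 2 ^ i * xvar n ^ c * ∏ w, evar n (w.1.val + 1) ^ β w

theorem phi_mon_zero (a i : ℕ) (β : W n → ℕ) : phi n (mon a i 0 β) = term n a i 0 β := by
  simp only [mon, term, G, map_mul, map_pow, map_prod, phi_e1 hn, phi_e2 hn, phi_ev, pow_zero,
    mul_one]

theorem phi_mon_one (i : ℕ) (β : W n → ℕ) : phi n (mon 0 i 1 β) = term n (n - 1) i 1 β := by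
  simp only [mon, term, G, map_mul, map_pow, map_prod, phi_e2 hn, phi_ev, phi_x, pow_zero,
    one_mul, pow_one]
  ring

/-- Extract the top coefficient along `ε₁`. -/
def pick : P n →ₗ[ZMod 2] P n :=
  (basis hn).constr (ZMod 2) fun x =>
    if x.2.2.1 = false ∧ (x.1 : ℕ) = n - 1 then term n 0 x.2.1 0 (fun w => (x.2.2.2 w : ℕ)) else 0

/-- Divide by `ε₁`. -/
def down : P n →ₗ[ZMod 2] P n :=
  (basis hn).constr (ZMod 2) fun x =>
    if 1 ≤ (x.1 : ℕ) then term n ((x.1 : ℕ) - 1) x.2.1 x.2.2.1.toNat (fun w => (x.2.2.2 w : ℕ)) else 0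

theorem sh_decomp (y : P n) :
    sh hn y = T n ^ (n - 1) * pick hn (sh hn y) + down hn (T n * sh hn y) := by
  have : sh hn = LinearMap.mulLeft (ZMod 2) (T n ^ (n - 1)) ∘ₗ pick hn ∘ₗ sh hn +
      down hn ∘ₗ LinearMap.mulLeft (ZMod 2) (T n) ∘ₗ sh hn := by
    refine (basis hn).ext fun x => ?_
    obtain ⟨a, i, δ, β⟩ := x
    simp only [LinearMap.add_apply, LinearMap.comp_apply, LinearMap.mulLeft_apply, basis_apply, sh_el]
    cases δ
    · simp
    simp only [if_true]
    rw [pick, ← basis_apply hn (a, i, false, β), Basis.constr_basis, basis_apply]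
    have e : T n * el (a, i, false, β) = term n ((a : ℕ) + 1) i 0 (fun w => (β w : ℕ)) := by
      simp only [el, term, Bool.toNat_false]; ring
    rw [e]
    by_cases ha : (a : ℕ) = n - 1
    · have e0 : term n ((a : ℕ) + 1) i 0 (fun w => (β w : ℕ)) = 0 := by
        simp [term, T_pow hn (show n ≤ (a : ℕ) + 1 by omega)]
      rw [if_pos ⟨rfl, ha⟩, e0, map_zero, add_zero]
      simp only [el, term, Bool.toNat_false, pow_zero, ha]
      ring
    · have hlt : (a : ℕ) + 1 < n := by omega
      have e1 : term n ((a : ℕ) + 1) i 0 (fun w => (β w : ℕ)) =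
          basis hn (⟨(a : ℕ) + 1, hlt⟩, i, false, β) := by rw [basis_apply]; simp only [el, Bool.toNat_false]
      rw [if_neg (fun h => ha h.2), mul_zero, zero_add, e1, down, Basis.constr_basis,
        if_pos (Nat.le_add_left 1 _)]
      simp [el]
  exact LinearMap.congr_fun this y

theorem add_U_mul_sh_mem (z : P n) : z + U n * sh hn z ∈ (phi n).range := by
  have hz : z ∈ Submodule.span (ZMod 2) (Set.range (el (n := n))) := span_el hn ▸ Submodule.mem_top
  induction hz using Submodule.span_induction with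
  | mem y hy =>
    obtain ⟨⟨a, i, δ, β⟩, rfl⟩ := hy
    rw [sh_el]
    cases δ
    · simp only [Bool.false_eq_true, if_false, mul_zero, add_zero]
      exact ⟨mon a i 0 (fun w => (β w : ℕ)), phi_mon_zero hn _ _ _⟩
    · have : el (a, i, true, β) + U n * el (a, i, false, β) = 0 := by
        simp only [el, term, Bool.toNat_true, Bool.toNat_false]
        linear_combination (T n ^ (a : ℕ) * V n ^ (i : ℕ) * U n * G (fun w => (β w : ℕ))) * two_eq_zero n
      rw [if_pos rfl, this]
      exact zero_mem _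
  | zero => simp
  | add a b _ _ ha hb =>
    rw [map_add, mul_add, add_add_add_comm]
    exact add_mem ha hb
  | smul r a _ ha =>
    rw [map_smul, mul_smul_comm, ← smul_add]
    exact Subalgebra.smul_mem _ ha r

theorem pick_mem (y : P n) : pick hn y ∈ (phi n).range := by
  have : y ∈ Submodule.span (ZMod 2) (Set.range (el (n := n))) := span_el hn ▸ Submodule.mem_top
  induction this using Submodule.span_induction with
  | mem y hy =>
    obtain ⟨x, rfl⟩ := hy
    rw [pick, ← basis_apply hn x, Basis.constr_basis]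
    split_ifs
    · exact ⟨mon 0 x.2.1 0 _, phi_mon_zero hn _ _ _⟩
    · exact zero_mem _
  | zero => simp
  | add a b _ _ ha hb => rw [map_add]; exact add_mem ha hb
  | smul r a _ ha => rw [map_smul]; exact Subalgebra.smul_mem _ ha r

theorem range_phi (τ : P n →ₐ[ZMod 2] P n) (hτ1 : τ (eps n 1) = eps n 1)
    (hτ : ∀ j : ℕ, 2 ≤ j → j ≤ numVars n → τ (eps n j) = eps n j + eps n 1 ^ (2 * j - 3)) :
    (phi n).range = AlgHom.equalizer τ (AlgHom.id (ZMod 2) (P n)) := by
  apply le_antisymm
  · rintro _ ⟨q, rfl⟩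
    show τ (phi n q) = phi n q
    have : τ.comp (phi n) = phi n := by
      refine MvPolynomial.algHom_ext fun o => ?_
      simp only [AlgHom.comp_apply, phi, aeval_X]
      cases o with
      | none =>
        simp only [genImage, map_mul, map_pow]
        rw [hτ1, tau_U hn τ hτ1 hτ]
        have : T n ^ (n - 1) * T n = 0 := by rw [← pow_succ]; exact T_pow hn (by omega)
        linear_combination this
      | some i =>
        simp only [genImage]
        split_ifs with h0 h1
        · exact hτ1
        · exact tau_V hn τ hτ1 hτ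
        · exact tau_F hn τ hτ1 hτ ⟨i, by omega⟩
    exact AlgHom.congr_fun this q
  · intro z hz
    have hz' : τ z = z := hz
    have h1 : sh hn z = T n ^ (n - 1) * pick hn (sh hn z) := by
      have h := sh_decomp hn z
      rwa [(fixed_iff hn τ hτ1 hτ z).mp hz', map_zero, add_zero] at h
    have h2 : z = (z + U n * sh hn z) + T n ^ (n - 1) * U n * pick hn (sh hn z) := by
      linear_combination U n * h1 - U n * sh hn z * two_eq_zero n
    rw [h2]
    exact add_mem (add_U_mul_sh_mem hn z) (mul_mem ⟨xvar n, phi_x⟩ (pick_mem hn _))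

end Groth.L14.QsChow
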